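import Groth.Agent.Lib.Mero.ZeroDiv
import Groth.Agent.Lib.TensorGen.Basic
import Groth.Agent.Lib.QCoh.Qcqs

/-!
# Vanishing and extension of sections after twisting by powers of a section of an invertible module
-/

set_option autoImplicit false
set_option backward.isDefEq.respectTransparency false
set_option linter.style.haveILetI false

universe u

open CategoryTheory CategoryTheory.Limits AlgebraicGeometry TopologicalSpace Opposite
open GrothLib.InvExt (mres fres IsGen)
open GrothLib.VA (tm tm_smul_left tm_smul_right mres_tm)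
open GrothLib.TensorGen (pw pw_smul mres_pw)
open GrothLib.Mero.Zero (gsecOf gsecOf_mres)

noncomputable section

namespace GrothLib.QCohTwist9

theorem mem_genLocus_iff {X : Scheme.{u}} {L : X.Modules} (s : Coh.structureModule X ⟶ L) {U : X.Opens}
    {e : Γ(L, U)} (he : IsGen L U e) {c : Γ(X, U)} (hc : GrothLib.Mero.Zero.gsecOf s U = c • e)
    {x : X} (hx : x ∈ U) :
    x ∈ CohB1.genLocus L s ↔ IsUnit (X.presheaf.germ U x hx c) := by
  have happ : ∀ (W : X.Opens) (hW : W ≤ U) (b : Γ(X, W)),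
      s.app W b = (b * GrothLib.InvExt.fres X hW c) • mres L hW e := by
    intro W hW b
    refine (GrothLib.Mero.Zero.app_eq_smul_secVal L s W b).trans ?_
    rw [← smul_smul, ← GrothLib.InvExt.mres_smul, ← hc, GrothLib.Mero.Zero.gsecOf_mres]
  constructor
  · intro h
    obtain ⟨V, hV, hxV⟩ := TopologicalSpace.Opens.mem_sSup.1 h
    have hW : V ⊓ U ≤ U := inf_le_right
    have hWV : (Scheme.Opens.ι V) ''ᵁ ((Scheme.Opens.ι V) ⁻¹ᵁ (V ⊓ U)) = V ⊓ U := by
      rw [Scheme.Hom.image_preimage_eq_opensRange_inf, Scheme.Opens.opensRange_ι, ← inf_assoc, inf_idem]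
    haveI : IsIso ((Scheme.Modules.restrictFunctor (Scheme.Opens.ι V)).map s) := hV
    have hiso : IsIso (((Scheme.Modules.restrictFunctor (Scheme.Opens.ι V)).map s).app ((Scheme.Opens.ι V) ⁻¹ᵁ (V ⊓ U))) :=
      inferInstance
    have hb : Function.Bijective (s.app ((Scheme.Opens.ι V) ''ᵁ ((Scheme.Opens.ι V) ⁻¹ᵁ (V ⊓ U)))) :=
      @ConcreteCategory.bijective_of_isIso _ _ _ _ _ _ _ _ _ hiso
    rw [hWV] at hb
    obtain ⟨b, hb'⟩ := hb.2 (mres L hW e)
    rw [happ _ hW] at hb'
    have h1 := he.smul_left_injective hW (hb'.trans (one_smul _ _).symm)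
    have h2 := congrArg (X.presheaf.germ (V ⊓ U) x ⟨hxV, hx⟩) h1
    rw [map_mul, map_one] at h2
    simp only [GrothLib.InvExt.fres, TopCat.Presheaf.germ_res_apply] at h2
    exact IsUnit.of_mul_eq_one _ ((mul_comm _ _).trans h2)
  · intro h
    refine le_sSup (a := X.basicOpen c) (show IsIso ((Scheme.Modules.restrictFunctor (X.basicOpen c).ι).map s) from ?_)
      ((Scheme.mem_basicOpen _ _ _ hx).2 h)
    refine Scheme.Modules.Hom.isIso_iff_isIso_app.2 fun W => (ConcreteCategory.isIso_iff_bijective _).2 ?_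
    have hW : (X.basicOpen c).ι ''ᵁ W ≤ X.basicOpen c :=
      (Scheme.Hom.image_le_opensRange _ _).trans (Scheme.Opens.opensRange_ι _).le
    have hu : IsUnit (GrothLib.InvExt.fres X (hW.trans (X.basicOpen_le c)) c) := by
      have h0 := (RingedSpace.isUnit_res_basicOpen X.toLocallyRingedSpace.toRingedSpace c).map
        (X.presheaf.map (homOfLE hW).op).hom
      rw [← GrothLib.InvExt.fres_fres (X.basicOpen_le c) hW]
      exact h0
    change Function.Bijective fun b : Γ(X, (X.basicOpen c).ι ''ᵁ W) => s.app ((X.basicOpen c).ι ''ᵁ W) b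
    rw [show (fun b : Γ(X, (X.basicOpen c).ι ''ᵁ W) => s.app ((X.basicOpen c).ι ''ᵁ W) b) =
      (fun b => b • mres L (hW.trans (X.basicOpen_le c)) e) ∘
        (· * GrothLib.InvExt.fres X (hW.trans (X.basicOpen_le c)) c) from
      funext (happ _ (hW.trans (X.basicOpen_le c)))]
    exact (he _ _).comp ⟨fun a b hab => hu.mul_right_cancel hab,
      fun a => ⟨a * (hu.unit⁻¹).1, (mul_assoc _ _ _).trans ((congrArg (a * ·) hu.val_inv_mul).trans (mul_one a))⟩⟩

variable {X : Scheme.{u}} {L : X.Modules} (s : Coh.structureModule X ⟶ L)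

/-- On a chart, the locus where a section generates is a basic open. -/
theorem genLocus_inf_eq {W : X.Opens} {l : Γ(L, W)} (hl : IsGen L W l) {c : Γ(X, W)}
    (hc : gsecOf s W = c • l) : CohB1.genLocus L s ⊓ W = X.basicOpen c := by
  ext x
  constructor
  · rintro ⟨hx, hxW⟩
    exact (Scheme.mem_basicOpen _ _ _ hxW).2 ((mem_genLocus_iff s hl hc hxW).1 hx)
  · intro hx
    have hxW := X.basicOpen_le c hx
    exact ⟨(mem_genLocus_iff s hl hc hxW).2 ((Scheme.mem_basicOpen _ _ _ hxW).1 hx), hxW⟩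

theorem pow_eq_pw (V : X.Opens) : ∀ n, SecTwist.pow s n V = pw L (gsecOf s V) n
  | 0 => rfl
  | n + 1 => congrArg (fun q => SecTwist.tmul (CohB1.tensorPow L n) L V q (SecTwist.val s V)) (pow_eq_pw V n)

/-- The twist of a section in a chart. -/
theorem twist_eq (F : X.Modules) {V : X.Opens} {l : Γ(L, V)} {c : Γ(X, V)} (hc : gsecOf s V = c • l)
    (n : ℕ) (t : Γ(F, V)) :
    SecTwist.twist s n F V t = tm (c ^ n • t) (pw L l n) := by
  change tm t (SecTwist.pow s n V) = _
  rw [pow_eq_pw, hc, pw_smul, tm_smul_right, tm_smul_left]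

/-- An invertible module is trivialized on a finite affine cover. -/
theorem exists_charts [CompactSpace X] (hL : PicF.IsInvertible L) :
    ∃ (ι : Type u) (_ : Fintype ι) (W : ι → X.Opens) (l : ∀ i, Γ(L, W i)) (c : ∀ i, Γ(X, W i)),
      (∀ i, IsAffineOpen (W i)) ∧ (∀ i, IsGen L (W i) (l i)) ∧ (∀ i, gsecOf s (W i) = c i • l i) ∧
      (⊤ : X.Opens) ≤ ⨆ i, W i := by
  have key : ∀ x : X, ∃ (W : X.Opens) (l : Γ(L, W)), x ∈ W ∧ IsAffineOpen W ∧ IsGen L W l := by
    intro x
    obtain ⟨V, e, hxV, he⟩ := InvExt.exists_gen_nhd hL x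
    obtain ⟨W, hW, hxW, hWV⟩ := exists_isAffineOpen_mem_and_subset hxV
    exact ⟨W, mres L hWV e, hxW, hW, he.restrict hWV⟩
  choose W l hxW hW hl using key
  obtain ⟨t, ht⟩ := isCompact_univ.elim_finite_subcover (fun x => (W x : Set X)) (fun x => (W x).2)
    fun x _ => Set.mem_iUnion.2 ⟨x, hxW x⟩
  choose c hc using fun x => (hl x).exists_smul_eq le_rfl (gsecOf s (W x))
  refine ⟨t, inferInstance, fun i => W i.1, fun i => l i.1, fun i => c i.1, fun i => hW _, fun i => hl _,
    fun i => ?_, fun x _ => ?_⟩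
  · rw [hc i.1, InvExt.mres_self]
  · obtain ⟨p, hp, hxp⟩ := Set.mem_iUnion₂.1 (ht (Set.mem_univ x))
    exact Opens.mem_iSup.2 ⟨⟨p, hp⟩, hxp⟩

variable (F : X.Modules) [hF : F.IsQuasicoherent]

include hF in
theorem exists_twist_eq_zero [CompactSpace X] (hL : PicF.IsInvertible L) (t : Γ(F, ⊤))
    (ht : mres F (le_top : CohB1.genLocus L s ≤ ⊤) t = 0) :
    ∃ n : ℕ, 0 < n ∧ SecTwist.twist s n F ⊤ t = 0 := by
  classical
  obtain ⟨ι, _, W, l, c, hW, hl, hc, hcov⟩ := exists_charts s hL
  have key : ∀ i, ∃ m : ℕ, c i ^ m • mres F (le_top : W i ≤ ⊤) t = 0 := fun i => by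
    refine (QCoh.smulLift_and_smulSep_of_isAffineOpen (hW i) F (c i)).2 _ ?_
    show mres F (X.basicOpen_le (c i)) (mres F le_top t) = 0
    have hle : X.basicOpen (c i) ≤ CohB1.genLocus L s :=
      (genLocus_inf_eq s (hl i) (hc i)).ge.trans inf_le_left
    have e := congrArg (mres F hle) ht
    rw [InvExt.mres_mres] at e ⊢
    exact e.trans (map_zero (F.presheaf.map (homOfLE hle).op).hom)
  choose m hm using key
  refine ⟨Finset.univ.sup m + 1, Nat.succ_pos _, ?_⟩
  refine Ample.meq_of_cover _ W (fun i => le_top) hcov fun i => ?_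
  refine (SecTwist.map_twist s _ F (homOfLE le_top) t).trans ?_
  refine Eq.trans ?_ (map_zero ((CohB1.tensorMod F (CohB1.tensorPow L _)).presheaf.map
    (homOfLE (le_top : W i ≤ ⊤)).op).hom).symm
  refine (twist_eq s F (hc i) _ _).trans ?_
  obtain ⟨k, hk⟩ := Nat.exists_eq_add_of_le' (show m i ≤ Finset.univ.sup m + 1 from
    (Finset.le_sup (Finset.mem_univ i)).trans (Nat.le_succ _))
  rw [hk, pow_add, mul_smul]
  refine (congrArg (fun z => tm z (pw L (l i) _)) ((congrArg (c i ^ k • ·) (hm i)).trans (smul_zero _))).trans ?_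
  exact (congrArg (fun z => tm z _) (zero_smul Γ(X, W i) (0 : Γ(F, W i))).symm).trans
    ((tm_smul_left _ _ _).trans (zero_smul _ _))

include hF in
theorem exists_twist_extends [CompactSpace X] [QuasiSeparatedSpace X] (hL : PicF.IsInvertible L)
    (t : Γ(F, CohB1.genLocus L s)) :
    ∃ n : ℕ, 0 < n ∧ ∃ t' : Γ(CohB1.tensorMod F (CohB1.tensorPow L n), ⊤),
      mres _ (le_top : CohB1.genLocus L s ≤ ⊤) t' = SecTwist.twist s n F (CohB1.genLocus L s) t := by
  classical
  obtain ⟨ι, _, W, l, c, hW, hl, hc, hcov⟩ := exists_charts s hL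
  let G := CohB1.genLocus L s
  have hD : ∀ i, X.basicOpen (c i) ≤ G := fun i => (genLocus_inf_eq s (hl i) (hc i)).ge.trans inf_le_left
  have key : ∀ i, ∃ n, ∀ N, n ≤ N → ∃ a : Γ(F, W i),
      mres F (X.basicOpen_le (c i)) a = fres X (X.basicOpen_le (c i)) (c i) ^ N • mres F (hD i) t := by
    intro i
    obtain ⟨n, a, ha⟩ := (QCoh.smulLift_and_smulSep_of_isAffineOpen (hW i) F (c i)).1 (mres F (hD i) t)
    refine ⟨n, fun N hN => ?_⟩
    obtain ⟨k, rfl⟩ := Nat.exists_eq_add_of_le' hN
    refine ⟨c i ^ k • a, ?_⟩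
    rw [InvExt.mres_smul, show mres F (X.basicOpen_le (c i)) a = _ from ha, pow_add, mul_smul]
    exact congrArg (· • _) (map_pow (X.presheaf.map (homOfLE (X.basicOpen_le (c i))).op).hom _ _)
  choose n₁ hn₁ using key
  let n := Finset.univ.sup n₁
  choose a ha using fun i => hn₁ i n (Finset.le_sup (Finset.mem_univ i))
  have hov : ∀ i j, ∃ (T : X.Opens) (hTi : T ≤ W i) (hTj : T ≤ W j) (u : Γ(X, T)) (M : ℕ), T = W i ⊓ W j ∧
      mres L hTj (l j) = u • mres L hTi (l i) ∧ fres X hTi (c i) = fres X hTj (c j) * u ∧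
      fres X hTi (c i) ^ M • (mres F hTi (a i) - u ^ n • mres F hTj (a j)) = 0 := by
    intro i j
    let T := W i ⊓ W j
    obtain ⟨u, hu⟩ := (hl i).exists_smul_eq (inf_le_left : T ≤ W i) (mres L (inf_le_right : T ≤ W j) (l j))
    have hcu : fres X (inf_le_left : T ≤ W i) (c i) = fres X (inf_le_right : T ≤ W j) (c j) * u := by
      refine (hl i).smul_left_injective (inf_le_left : T ≤ W i) ?_
      rw [mul_smul, ← hu, ← InvExt.mres_smul, ← InvExt.mres_smul, ← hc i, ← hc j, gsecOf_mres, gsecOf_mres]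
    have hqc : IsCompact ((T : X.Opens) : Set X) :=
      QuasiSeparatedSpace.inter_isCompact _ _ (W i).2 (hW i).isCompact (W j).2 (hW j).isCompact
    let ci : Γ(X, T) := fres X (inf_le_left : T ≤ W i) (c i)
    obtain ⟨M, hM⟩ := QCoh.smulSep_of_isCompact F hqc ci
      (mres F (inf_le_left : T ≤ W i) (a i) - u ^ n • mres F (inf_le_right : T ≤ W j) (a j)) (by
        show (F.presheaf.map (homOfLE (X.basicOpen_le ci)).op).hom _ = 0
        rw [map_sub]
        show mres F (X.basicOpen_le ci) (mres F _ (a i)) - mres F (X.basicOpen_le ci) (u ^ n • mres F _ (a j)) = 0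
        have hle : X.basicOpen ci ≤ X.basicOpen (c i) := (X.basicOpen_res (c i) _).le.trans inf_le_right
        have hle' : X.basicOpen ci ≤ X.basicOpen (c j) := by
          refine le_trans ?_ ((genLocus_inf_eq s (hl j) (hc j)).le)
          exact le_inf (hle.trans (hD i)) ((X.basicOpen_le ci).trans inf_le_right)
        have ei := congrArg (mres F hle) (ha i)
        have ej := congrArg (mres F hle') (ha j)
        rw [InvExt.mres_mres, InvExt.mres_smul, InvExt.mres_mres] at ei ej
        rw [InvExt.mres_smul, InvExt.mres_mres, InvExt.mres_mres, ei, ej, smul_smul, sub_eq_zero]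
        have e := congrArg (fres X (X.basicOpen_le ci)) hcu
        have em : fres X (X.basicOpen_le ci) (fres X (inf_le_right : T ≤ W j) (c j) * u) =
            fres X (X.basicOpen_le ci) (fres X (inf_le_right : T ≤ W j) (c j)) * fres X (X.basicOpen_le ci) u :=
          map_mul _ _ _
        rw [em, InvExt.fres_fres, InvExt.fres_fres] at e
        have hp : ∀ {V W : X.Opens} (h : W ≤ V) (x : Γ(X, V)) (k : ℕ), fres X h (x ^ k) = fres X h x ^ k :=
          fun h x k => map_pow _ _ _
        erw [hp, hp, hp, InvExt.fres_fres, InvExt.fres_fres]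
        congr 1
        rw [← mul_pow, e, mul_comm])
    exact ⟨T, inf_le_left, inf_le_right, u, M, rfl, hu, hcu, hM⟩
  choose T hTi hTj u M hT hu hcu hM using hov
  let m := (Finset.univ.sup fun p : ι × ι => M p.1 p.2) + 1
  let N := n + m
  let P := CohB1.tensorMod F (CohB1.tensorPow L N)
  let b : ∀ i, Γ(P, W i) := fun i => tm (c i ^ m • a i) (pw L (l i) N)
  have hpair : ∀ i j, mres P (hTi i j) (b i) = mres P (hTj i j) (b j) := by
    intro i j
    show mres P _ (tm _ _) = mres P _ (tm _ _)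
    rw [mres_tm, mres_tm, mres_pw, mres_pw, hu i j, pw_smul, tm_smul_right, ← tm_smul_left,
      InvExt.mres_smul, InvExt.mres_smul]
    refine congrArg (fun z => tm z _) ?_
    obtain ⟨k, hk⟩ := Nat.exists_eq_add_of_le' (show M i j ≤ m from
      (Finset.le_sup (f := fun p : ι × ι => M p.1 p.2) (Finset.mem_univ (i, j))).trans (Nat.le_succ _))
    have e := congrArg (fres X (hTi i j) (c i) ^ k • ·) (hM i j)
    simp only [smul_zero, smul_smul, ← pow_add, ← hk, smul_sub, sub_eq_zero] at e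
    rw [show fres X (hTi i j) (c i ^ m) = fres X (hTi i j) (c i) ^ m from map_pow _ _ _,
      show fres X (hTj i j) (c j ^ m) = fres X (hTj i j) (c j) ^ m from map_pow _ _ _, e, smul_smul]
    congr 1
    rw [← mul_assoc, ← pow_add, ← hk, hcu i j, mul_pow, show N = n + m from rfl, pow_add]
    ring
  obtain ⟨t', ht', -⟩ := TopCat.Sheaf.existsUnique_gluing' ⟨P.presheaf, P.isSheaf⟩ W ⊤
    (fun i => homOfLE le_top) hcov b fun i j => by
      have h := congrArg (mres P (hT i j).ge) (hpair i j)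
      rw [InvExt.mres_mres, InvExt.mres_mres] at h
      exact h
  refine ⟨N, Nat.succ_pos _, t', ?_⟩
  refine Ample.meq_of_cover _ (fun i => X.basicOpen (c i)) hD ?_ fun i => ?_
  · intro x hx
    obtain ⟨i, hi⟩ := Opens.mem_iSup.1 (hcov (Opens.mem_top x))
    exact Opens.mem_iSup.2 ⟨i, (genLocus_inf_eq s (hl i) (hc i)).le ⟨hx, hi⟩⟩
  rw [InvExt.mres_mres, ← InvExt.mres_mres P (le_top : W i ≤ ⊤) (X.basicOpen_le (c i)),
    show mres P (le_top : W i ≤ ⊤) t' = b i from ht' i]
  refine Eq.trans ?_ (SecTwist.map_twist s N F (homOfLE (hD i)) t).symm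
  have hc' : gsecOf s (X.basicOpen (c i)) = fres X (X.basicOpen_le (c i)) (c i) • mres L (X.basicOpen_le (c i)) (l i) := by
    rw [← gsecOf_mres s (X.basicOpen_le (c i)), hc i, InvExt.mres_smul]
  refine Eq.trans ?_ (twist_eq s F hc' N (mres F (hD i) t)).symm
  show mres P _ (tm _ _) = _
  rw [mres_tm, mres_pw, InvExt.mres_smul, ha i,
    show fres X (X.basicOpen_le (c i)) (c i ^ m) = fres X (X.basicOpen_le (c i)) (c i) ^ m from map_pow _ _ _,
    smul_smul, ← pow_add, add_comm m n]

end GrothLib.QCohTwist9
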